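import Cfsg.Agent.Lib.SuThreeGen.Pair
import Cfsg.Agent.S0780
import Cfsg.Agent.Lib.Classical.HermForm
import Cfsg.Agent.Lib.RootSub.UnitaryTransvections
import Mathlib

/-!
Passing from the antidiagonal form to the standard Hermitian form.
-/

set_option autoImplicit false
set_option linter.unusedSectionVars false
set_option linter.unusedSimpArgs false
set_option linter.unusedTactic false
set_option linter.unreachableTactic false

namespace Cfsg.Agent.Lib.SuThreeGen

open Matrix
open Cfsg.Agent.Lib.Classical (conjHom conjHom_apply conjHom_conjHom conjHom_ne_id mem_SU_iff)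

variable {F : Type*} [Field F] [Fintype F] {q : ℕ}

theorem exists_trace_one (hF : Fintype.card F = q ^ 2) : ∃ y : F, y + conjHom hF y = 1 := by
  obtain ⟨t, ht⟩ := Cfsg.Agent.Lib.RootSub.exists_trace_eq hF (a := (1 : F)) (one_pow q)
  exact ⟨t, by rw [conjHom_apply]; exact ht⟩

theorem exists_norm (hF : Fintype.card F = q ^ 2) {s : F} (hs : conjHom hF s = s) :
    ∃ x : F, x * conjHom hF x = s := by
  obtain ⟨x, hx⟩ := Cfsg.Agent.Lib.Geometry.exists_mul_conj_eq (conjHom_ne_id hF) (conjHom_conjHom hF) hs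
  exact ⟨x, by rw [mul_comm]; exact hx⟩

theorem main_of_gen (hF : Fintype.card F = q ^ 2) (hq : 3 ≤ q) (hG : Gen (conjHom hF)) :
    ∃ u g : ↥(Cfsg.SU 3 F q),
      (IsNilpotent (((u : Matrix.SpecialLinearGroup (Fin 3) F) : Matrix (Fin 3) (Fin 3) F) - 1) ∧
        (((u : Matrix.SpecialLinearGroup (Fin 3) F) : Matrix (Fin 3) (Fin 3) F) - 1) ^ (3 - 1) ≠ 0) ∧
      Subgroup.closure ({u, g * u * g⁻¹} : Set ↥(Cfsg.SU 3 F q)) = ⊤ := by
  set σ := conjHom hF with hσdef
  obtain ⟨u, g, a, b, hu, ha, hgen⟩ := hG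
  have hσ : ∀ x, σ (σ x) = x := conjHom_conjHom hF
  obtain ⟨c, hc⟩ := exists_norm hF (s := (-1 : F)) (by rw [map_neg, map_one])
  obtain ⟨y, hy⟩ := exists_trace_one hF
  obtain ⟨s, hs⟩ : ∃ s, s = -y := ⟨_, rfl⟩
  have hss : s + σ s = -1 := by rw [hs, map_neg, ← hy]; ring
  have hc0 : c ≠ 0 := fun h => by rw [h, zero_mul] at hc; exact neg_ne_zero.2 one_ne_zero hc.symm
  let P : Matrix (Fin 3) (Fin 3) F := !![1, 0, 1 + s; c, 0, s * c; 0, 1, 0]
  let Q : Matrix (Fin 3) (Fin 3) F := !![-s, (1 + s) / c, 0; 0, 0, 1; 1, -c⁻¹, 0]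
  have hPQ : P * Q = 1 := by
    ext i j; fin_cases i <;> fin_cases j <;>
      simp [P, Q, Matrix.mul_apply, Fin.sum_univ_three] <;> field_simp <;> ring
  have hQP : Q * P = 1 := by
    ext i j; fin_cases i <;> fin_cases j <;>
      simp [P, Q, Matrix.mul_apply, Fin.sum_univ_three] <;> field_simp <;> ring
  have hP : Pᵀ * P.map σ = J3 := by
    ext i j; fin_cases i <;> fin_cases j <;>
      simp [P, J3, Matrix.mul_apply, Fin.sum_univ_three, Matrix.transpose_apply] <;>
      (try simp [mul_assoc, mul_left_comm, mul_comm] at hc) <;> first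
        | linear_combination hc
        | linear_combination (σ s) * hc
        | linear_combination s * hc
        | linear_combination hss + (s * σ s) * hc
  have hQP' : ∀ X : Matrix (Fin 3) (Fin 3) F, Q * (P * X) = X := fun X => by
    rw [← Matrix.mul_assoc, hQP, Matrix.one_mul]
  have hPQ' : ∀ X : Matrix (Fin 3) (Fin 3) F, P * (Q * X) = X := fun X => by
    rw [← Matrix.mul_assoc, hPQ, Matrix.one_mul]
  have hdet : ∀ M : Matrix (Fin 3) (Fin 3) F, (P * M * Q).det = M.det := fun M => by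
    have h : P.det * Q.det = 1 := by rw [← Matrix.det_mul, hPQ, Matrix.det_one]
    rw [Matrix.det_mul, Matrix.det_mul]; linear_combination M.det * h
  have hdet' : ∀ M : Matrix (Fin 3) (Fin 3) F, (Q * M * P).det = M.det := fun M => by
    have h : P.det * Q.det = 1 := by rw [← Matrix.det_mul, hPQ, Matrix.det_one]
    rw [Matrix.det_mul, Matrix.det_mul]; linear_combination M.det * h
  have hPQc : P.map σ * Q.map σ = 1 := by rw [← Matrix.map_mul, hPQ]; simp [Matrix.map_one]
  have hto : ∀ M : Matrix (Fin 3) (Fin 3) F, Iso σ M → (P * M * Q)ᵀ * (P * M * Q).map σ = 1 := fun M hM => by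
    calc (P * M * Q)ᵀ * (P * M * Q).map σ = Qᵀ * (Mᵀ * (Pᵀ * P.map σ) * M.map σ) * Q.map σ := by
          simp only [Matrix.transpose_mul, Matrix.map_mul, Matrix.mul_assoc]
      _ = (P * Q)ᵀ * (P.map σ * Q.map σ) := by
          rw [hP, hM, ← hP, Matrix.transpose_mul]; simp only [Matrix.mul_assoc]
      _ = 1 := by rw [hPQ, hPQc, Matrix.transpose_one, Matrix.one_mul]
  have hfrom : ∀ A : Matrix (Fin 3) (Fin 3) F, Aᵀ * A.map σ = 1 → Iso σ (Q * A * P) := fun A hA => by
    have hQ : Qᵀ * J3 * Q.map σ = 1 := by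
      rw [← hP]
      calc Qᵀ * (Pᵀ * P.map σ) * Q.map σ = (P * Q)ᵀ * (P.map σ * Q.map σ) := by
            simp only [Matrix.transpose_mul, Matrix.mul_assoc]
        _ = 1 := by rw [hPQ, hPQc, Matrix.transpose_one, Matrix.one_mul]
    show (Q * A * P)ᵀ * J3 * (Q * A * P).map σ = J3
    calc (Q * A * P)ᵀ * J3 * (Q * A * P).map σ = Pᵀ * (Aᵀ * (Qᵀ * J3 * Q.map σ) * A.map σ) * P.map σ := by
          simp only [Matrix.transpose_mul, Matrix.map_mul, Matrix.mul_assoc]
      _ = J3 := by rw [hQ, Matrix.mul_one, hA, Matrix.mul_one, hP]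
  let ψ : UJ σ →* Cfsg.SU 3 F q :=
    { toFun := fun g => ⟨⟨P * mat σ g * Q, by rw [hdet]; exact g.1.2⟩, (mem_SU_iff hF _).2 (hto _ g.2)⟩
      map_one' := Subtype.ext (Subtype.ext (by
        show P * mat σ 1 * Q = 1
        rw [show mat σ (1 : UJ σ) = 1 from rfl, Matrix.mul_one, hPQ]))
      map_mul' := fun g h => Subtype.ext (Subtype.ext (by
        show P * mat σ (g * h) * Q = (P * mat σ g * Q) * (P * mat σ h * Q)
        rw [mat_mul]; simp only [Matrix.mul_assoc, hQP'])) }
  refine ⟨ψ u, ψ g, ?_, ?_⟩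
  · have e : ((((ψ u : Cfsg.SU 3 F q)) : Matrix.SpecialLinearGroup (Fin 3) F) : Matrix (Fin 3) (Fin 3) F) - 1 =
        P * (um σ a b - 1) * Q := by
      show P * mat σ u * Q - 1 = _
      rw [hu, Matrix.mul_sub, Matrix.sub_mul, Matrix.mul_one, hPQ]
    have h2 : (P * (um σ a b - 1) * Q) ^ 2 = P * ((um σ a b - 1) * (um σ a b - 1)) * Q := by
      rw [pow_two]; simp only [Matrix.mul_assoc, hQP']
    rw [e]
    refine ⟨⟨3, ?_⟩, ?_⟩
    · rw [pow_succ, h2]
      simp only [Matrix.mul_assoc, hQP']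
      have : (um σ a b - 1) * ((um σ a b - 1) * (um σ a b - 1)) = 0 := by
        ext i j; fin_cases i <;> fin_cases j <;> simp [um, Matrix.mul_apply, Fin.sum_univ_three]
      rw [← Matrix.mul_assoc (um σ a b - 1) (um σ a b - 1) Q, ← Matrix.mul_assoc (um σ a b - 1), this]
      simp
    · rw [show (3 : ℕ) - 1 = 2 from rfl, h2]
      intro h0
      have h3 := congrArg (fun X => Q * X * P) h0
      simp only [Matrix.mul_assoc, hQP', Matrix.mul_zero, Matrix.zero_mul, hQP, Matrix.mul_one] at h3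
      have h4 := congrFun (congrFun h3 0) 2
      simp [um, Matrix.mul_apply, Fin.sum_univ_three] at h4
      exact ha h4
  · rw [eq_top_iff, ← Cfsg.Agent.S0780.result hF 3 le_rfl (by omega), Subgroup.closure_le]
    rintro A ⟨v, r, hv, hA⟩
    have hQA : Iso σ (Q * ((A : Matrix.SpecialLinearGroup (Fin 3) F) : Matrix (Fin 3) (Fin 3) F) * P) :=
      hfrom _ ((mem_SU_iff hF _).1 A.2)
    set x : Fin 3 → F := Q *ᵥ v with hxdef
    have hvx : v = P *ᵥ x := by rw [hxdef, Matrix.mulVec_mulVec, hPQ, Matrix.one_mulVec]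
    have hx : x 0 * σ (x 2) + x 1 * σ (x 1) + x 2 * σ (x 0) = 0 := by
      have h : v 0 * σ (v 0) + v 1 * σ (v 1) + v 2 * σ (v 2) = 0 := by
        have := hv
        simp only [Cfsg.hermForm, Fin.sum_univ_three, ← conjHom_apply hF] at this
        exact this
      rw [hvx] at h
      simp [P, mulVec, dotProduct, Fin.sum_univ_three] at h
      linear_combination h - (x 0 * σ (x 0) + x 0 * σ (x 2) * σ s + x 2 * s * σ (x 0) +
        x 2 * σ (x 2) * (s * σ s)) * hc - x 2 * σ (x 2) * hss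
    have hrow : Matrix.vecMul (fun j => σ (v j)) P = ![σ (x 2), σ (x 1), σ (x 0)] := by
      funext j
      rw [hvx]
      fin_cases j <;> simp [P, mulVec, vecMul, dotProduct, Fin.sum_univ_three]
      · linear_combination (σ (x 0) + σ s * σ (x 2)) * hc
      · linear_combination (σ (x 0) * s + s * σ s * σ (x 2)) * hc + σ (x 2) * hss
    have e : Q * ((A : Matrix.SpecialLinearGroup (Fin 3) F) : Matrix (Fin 3) (Fin 3) F) * P = tm σ x r := by
      rw [hA, Cfsg.unitaryTransvection, Matrix.mul_add, Matrix.add_mul, Matrix.mul_one, hQP, Matrix.mul_smul,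
        Matrix.smul_mul, Matrix.mul_vecMulVec, Matrix.vecMulVec_mul, tm,
        show (fun j => v j ^ q) = (fun j => σ (v j)) from funext fun j => (conjHom_apply hF _).symm, hrow]
    rw [e] at hQA
    obtain ⟨h, hh, he⟩ := hgen x r hx hQA
    have hA' : A = ψ h := Subtype.ext (Subtype.ext (by
      show ((A : Matrix.SpecialLinearGroup (Fin 3) F) : Matrix (Fin 3) (Fin 3) F) = P * mat σ h * Q
      rw [he, ← e]; simp only [Matrix.mul_assoc, hPQ', hPQ, Matrix.mul_one]))
    have hmap : (Subgroup.closure ({u, g * u * g⁻¹} : Set (UJ σ))).map ψ =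
        Subgroup.closure ({ψ u, ψ g * ψ u * (ψ g)⁻¹} : Set ↥(Cfsg.SU 3 F q)) := by
      rw [MonoidHom.map_closure, Set.image_pair, map_mul, map_mul, map_inv]
    rw [hA']
    exact hmap ▸ Subgroup.mem_map_of_mem ψ hh

end Cfsg.Agent.Lib.SuThreeGen
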