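import Cfsg.Agent.Lib.SuThreeGen.Generic
import Cfsg.Agent.Lib.SuThreeGen.Transfer
import Mathlib

/-!
The parameters outside the two small exceptional cases.
-/

set_option autoImplicit false
set_option linter.unusedSectionVars false
set_option linter.unusedSimpArgs false

namespace Cfsg.Agent.Lib.SuThreeGen

open Matrix
open Cfsg.Agent.Lib.Classical (conjHom conjHom_apply conjHom_conjHom)

variable {F : Type*} [Field F] [Fintype F] {q : ℕ}

/-- A forbidden arithmetic configuration. -/
def badCase (q r k d : ℕ) : Bool :=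
  decide (3 ≤ q ∧ 2 ≤ r ∧ 3 ≤ k ∧ r ^ k = q ^ 2 ∧ 3 * d ≥ q + 1 ∧ q ≠ 5 ∧ q ≠ 8) &&
    decide (d ∣ q + 1 ∧ d ∣ r - 1)

theorem small_cases : ((List.range 24).all fun q => (List.range 9).all fun r => (List.range 10).all fun k =>
    (List.range 25).all fun d => !badCase q r k d) = true := by
  decide +kernel

theorem proper_subfield {r k d : ℕ} (hq : 3 ≤ q) (h5 : q ≠ 5) (h8 : q ≠ 8) (hr : 2 ≤ r) (hk : 2 ≤ k)
    (hrk : r ^ k = q ^ 2) (hd : d ∣ q + 1) (h3d : q + 1 ≤ 3 * d) (hdr : d ∣ r - 1) (hd2 : 3 ≤ d) : False := by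
  rcases hk.eq_or_lt with rfl | hk3
  · have hrq : r = q := Nat.pow_left_injective two_ne_zero hrk
    subst hrq
    have : d ∣ 2 := by
      have h := Nat.dvd_sub hd hdr
      rwa [show r + 1 - (r - 1) = 2 by omega] at h
    have := Nat.le_of_dvd (by omega) this
    omega
  · have hle : d ≤ r - 1 := Nat.le_of_dvd (by omega) hdr
    have h3 : r ^ 3 ≤ q ^ 2 := hrk ▸ Nat.pow_le_pow_right (by omega) hk3
    have hr9 : r < 9 := by
      by_contra h
      have h1 : q ^ 2 < (3 * r) ^ 2 := Nat.pow_lt_pow_left (by omega) two_ne_zero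
      have h2 : (3 * r) ^ 2 ≤ r ^ 3 := by
        calc (3 * r) ^ 2 = 9 * r ^ 2 := by ring
          _ ≤ r * r ^ 2 := Nat.mul_le_mul_right _ (by omega)
          _ = r ^ 3 := by ring
      omega
    have hk10 : k < 10 := by
      by_contra h
      have h1 : 2 ^ 10 ≤ r ^ k := (Nat.pow_le_pow_left hr 10).trans (Nat.pow_le_pow_right (by omega) (by omega))
      have h2 : q ^ 2 < 24 ^ 2 := Nat.pow_lt_pow_left (by omega) two_ne_zero
      rw [hrk] at h1
      norm_num at h1 h2
      omega
    have h1 := List.all_eq_true.1 small_cases q (List.mem_range.2 (by omega))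
    have h2 := List.all_eq_true.1 h1 r (List.mem_range.2 hr9)
    have h3 := List.all_eq_true.1 h2 k (List.mem_range.2 hk10)
    have h4 := List.all_eq_true.1 h3 d (List.mem_range.2 (by omega))
    simp [badCase, hq, hr, hrk, hd, hdr, h5, h8] at h4
    omega

theorem gen_of_ne (hF : Fintype.card F = q ^ 2) (hq : 3 ≤ q) (h5 : q ≠ 5) (h8 : q ≠ 8) :
    Gen (conjHom hF) := by
  classical
  set σ := conjHom hF with hσdef
  have hσ : ∀ x, σ (σ x) = x := conjHom_conjHom hF
  obtain ⟨ω, hω⟩ := IsCyclic.exists_generator (α := Fˣ)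
  have hord : orderOf ω = q ^ 2 - 1 := by
    rw [orderOf_eq_card_of_forall_mem_zpowers hω, Nat.card_eq_fintype_card, Fintype.card_units, hF]
  set l : F := (ω : F) with hldef
  have hl : l ≠ 0 := ω.ne_zero
  have hlo : orderOf l = q ^ 2 - 1 := by rw [hldef, orderOf_units, hord]
  have hq2 : q ^ 2 - 1 = (q - 1) * (q + 1) := by
    rw [show q ^ 2 - 1 = q ^ 2 - 1 ^ 2 by rw [one_pow], Nat.sq_sub_sq]; ring
  have hwl : σ l / l = l ^ (q - 1) := by
    rw [conjHom_apply, div_eq_iff hl, ← pow_succ, show q - 1 + 1 = q by omega]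
  have hwo : orderOf (σ l / l) = q + 1 := by
    rw [hwl, orderOf_pow' _ (show q - 1 ≠ 0 by omega), hlo, hq2, Nat.gcd_mul_right_left]
    exact Nat.mul_div_cancel_left _ (by omega)
  have hS : l + σ l ≠ 0 := by
    intro h
    have h1 : σ l / l = -1 := by rw [eq_neg_of_add_eq_zero_right h, neg_div, div_self hl]
    have h2 : orderOf (-1 : F) ≤ 2 := orderOf_le_of_pow_eq_one (by norm_num) (by norm_num)
    rw [← h1, hwo] at h2
    omega
  set d := orderOf ((σ l / l) ^ 3) with hddef
  have hd : d = (q + 1) / Nat.gcd (q + 1) 3 := by rw [hddef, orderOf_pow' _ (by norm_num), hwo]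
  have hg : Nat.gcd (q + 1) 3 ≤ 3 := Nat.le_of_dvd (by norm_num) (Nat.gcd_dvd_right _ _)
  have hdg : d * Nat.gcd (q + 1) 3 = q + 1 := by rw [hd]; exact Nat.div_mul_cancel (Nat.gcd_dvd_left _ _)
  have hdq : d ∣ q + 1 := Dvd.intro _ hdg
  have h3d : q + 1 ≤ 3 * d := by rw [← hdg, mul_comm 3 d]; exact Nat.mul_le_mul_left _ hg
  have hd3 : 3 ≤ d := by
    rcases (Nat.dvd_prime Nat.prime_three).1 (Nat.gcd_dvd_right (q + 1) 3) with h | h
    · rw [h] at hdg; omega
    · rw [h] at hdg; omega
  have hl' : σ l ≠ 0 := fun h => hl (by rw [← hσ l, h, map_zero])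
  have hzn : (σ l / l) ^ 3 * σ ((σ l / l) ^ 3) = 1 := by
    rw [map_pow, map_div₀, hσ, ← mul_pow, div_mul_div_cancel₀ hl, div_self hl', one_pow]
  have hne : (σ l / l) ^ 3 ≠ σ ((σ l / l) ^ 3) := by
    intro h
    rw [← h, ← pow_two] at hzn
    have := orderOf_le_of_pow_eq_one (by norm_num) hzn
    omega
  have hz : Subring.closure ({(σ l / l) ^ 3} : Set F) = ⊤ := by
    set K := Subring.closure ({(σ l / l) ^ 3} : Set F) with hK
    let hKf : Field K := (Finite.isField_of_domain K).toField
    by_contra hne'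
    set r := Nat.card K with hr
    letI : Module K F := Module.compHom F K.subtype
    have hcard : Nat.card F = r ^ Module.finrank K F := Module.natCard_eq_pow_finrank (K := K) (V := F)
    have hr2 : 2 ≤ r := Finite.one_lt_card (α := K)
    have hk2 : 2 ≤ Module.finrank K F := by
      by_contra h
      have hlt : r < Nat.card F := by
        refine lt_of_le_of_ne (Nat.card_le_card_of_injective _ Subtype.val_injective) fun e => hne' ?_
        refine SetLike.coe_injective ?_
        exact Set.eq_of_subset_of_ncard_le (Set.subset_univ _) (by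
          show (Set.univ : Set F).ncard ≤ _; rw [Set.ncard_univ, ← e]; exact le_of_eq (Nat.card_coe_set_eq _)) (Set.toFinite _)
      rw [hcard] at hlt
      interval_cases hh : Module.finrank K F
      · simp at hlt; omega
      · simp at hlt
    rw [Nat.card_eq_fintype_card, hF] at hcard
    let zK : K := ⟨(σ l / l) ^ 3, Subring.subset_closure rfl⟩
    have hz0 : zK ≠ 0 := fun h => by
      have := congrArg Subtype.val h
      exact pow_ne_zero 3 (div_ne_zero hl' hl) this
    have hzo : orderOf zK = d := (orderOf_injective K.subtype.toMonoidHom Subtype.val_injective zK).symm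
    have hdr : d ∣ r - 1 := by
      rw [← hzo]
      haveI : Fintype K := Fintype.ofFinite K
      refine orderOf_dvd_of_pow_eq_one ?_
      rw [hr, Nat.card_eq_fintype_card]
      exact FiniteField.pow_card_sub_one_eq_one zK hz0
    exact proper_subfield hq h5 h8 hr2 hk2 hcard.symm hdq h3d hdr hd3
  obtain ⟨y, hy⟩ := exists_trace_one hF
  obtain ⟨a, ha⟩ := exists_norm hF (s := -((l + σ l) ^ 3 / (l * σ l))) (by
    rw [map_neg, map_div₀, map_pow, map_mul, map_add, hσ, add_comm, mul_comm (σ l)])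
  exact gen_generic hσ hy hl hS ha hne hz

end Cfsg.Agent.Lib.SuThreeGen
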