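import Mathlib

/-!
The special unitary group of the antidiagonal Hermitian form in dimension three, and a criterion for generation.
-/

set_option autoImplicit false
set_option linter.unusedSectionVars false
set_option linter.unusedSimpArgs false
set_option linter.unusedTactic false
set_option linter.unreachableTactic false

namespace Cfsg.Agent.Lib.SuThreeGen

open Matrix

variable {F : Type*} [Field F] (σ : F →+* F)

local notation "M3" => Matrix (Fin 3) (Fin 3) F

/-- The antidiagonal form. -/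
def J3 : M3 := !![0, 0, 1; 0, 1, 0; 1, 0, 0]

/-- Preserving the antidiagonal Hermitian form. -/
def Iso (M : M3) : Prop := Mᵀ * J3 * M.map σ = J3

theorem Iso.mul {A B : M3} (hA : Iso σ A) (hB : Iso σ B) : Iso σ (A * B) := by
  unfold Iso at *
  calc (A * B)ᵀ * J3 * (A * B).map σ = Bᵀ * (Aᵀ * J3 * A.map σ) * B.map σ := by
        rw [Matrix.transpose_mul, Matrix.map_mul]; simp only [Matrix.mul_assoc]
    _ = J3 := by rw [hA, hB]

theorem Iso.one : Iso σ (1 : M3) := by
  simp [Iso, Matrix.map_one]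

theorem Iso.of_mul_eq_one {A B : M3} (hA : Iso σ A) (h : A * B = 1) : Iso σ B := by
  unfold Iso at *
  have h' : A.map σ * B.map σ = 1 := by rw [← Matrix.map_mul, h]; simp [Matrix.map_one]
  calc Bᵀ * J3 * B.map σ = Bᵀ * (Aᵀ * J3 * A.map σ) * B.map σ := by rw [hA]
    _ = (A * B)ᵀ * J3 * (A.map σ * B.map σ) := by
        rw [Matrix.transpose_mul]; simp only [Matrix.mul_assoc]
    _ = J3 := by rw [h, h', Matrix.transpose_one, Matrix.one_mul, Matrix.mul_one]

/-- The group. -/
def UJ : Subgroup (SpecialLinearGroup (Fin 3) F) where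
  carrier := {g | Iso σ (g : M3)}
  one_mem' := Iso.one σ
  mul_mem' := fun ha hb => Iso.mul σ ha hb
  inv_mem' := fun {g} hg => Iso.of_mul_eq_one σ hg (by
    rw [← Matrix.SpecialLinearGroup.coe_mul, mul_inv_cancel, Matrix.SpecialLinearGroup.coe_one])

/-- The underlying matrix. -/
def mat (g : UJ σ) : M3 := ((g : SpecialLinearGroup (Fin 3) F) : M3)

theorem mat_mul (g h : UJ σ) : mat σ (g * h) = mat σ g * mat σ h := rfl

theorem mat_inj {g h : UJ σ} (e : mat σ g = mat σ h) : g = h := Subtype.ext (Subtype.ext e)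

variable {σ}

/-- Membership at the level of matrices. -/
def In (H : Subgroup (UJ σ)) (M : M3) : Prop := ∃ g ∈ H, mat σ g = M

variable {H : Subgroup (UJ σ)}

theorem In.mul {A B : M3} (hA : In H A) (hB : In H B) : In H (A * B) := by
  obtain ⟨a, ha, rfl⟩ := hA; obtain ⟨b, hb, rfl⟩ := hB
  exact ⟨a * b, H.mul_mem ha hb, rfl⟩

theorem In.one : In H (1 : M3) := ⟨1, H.one_mem, rfl⟩

theorem In.conj {A B C : M3} (hA : In H A) (hB : In H B) (e : A * B = C * A) : In H C := by
  obtain ⟨a, ha, rfl⟩ := hA; obtain ⟨b, hb, rfl⟩ := hB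
  refine ⟨a * b * a⁻¹, H.mul_mem (H.mul_mem ha hb) (H.inv_mem ha), ?_⟩
  rw [mat_mul, mat_mul, e, Matrix.mul_assoc, ← mat_mul, mul_inv_cancel]
  exact Matrix.mul_one C

theorem In.cancel {A B C : M3} (hA : In H A) (hB : In H B) (e : C * A = B) : In H C := by
  obtain ⟨a, ha, rfl⟩ := hA; obtain ⟨b, hb, rfl⟩ := hB
  refine ⟨b * a⁻¹, H.mul_mem hb (H.inv_mem ha), ?_⟩
  rw [mat_mul, ← e, Matrix.mul_assoc, ← mat_mul, mul_inv_cancel]
  exact Matrix.mul_one C

theorem In.iso {A : M3} (hA : In H A) : Iso σ A := by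
  obtain ⟨a, -, rfl⟩ := hA
  exact a.2

theorem In.inv {A B : M3} (hA : In H A) (e : B * A = 1) : In H B := hA.cancel In.one e

/-- Upper unitriangular. -/
def um (σ : F →+* F) (a b : F) : M3 := !![1, -σ a, b; 0, 1, a; 0, 0, 1]

/-- Lower long root element. -/
def lm (d : F) : M3 := !![1, 0, 0; 0, 1, 0; d, 0, 1]

/-- Torus. -/
def dm (x y z : F) : M3 := !![x, 0, 0; 0, y, 0; 0, 0, z]

theorem um_zero : um σ 0 (0 : F) = 1 := by
  ext i j; fin_cases i <;> fin_cases j <;> simp [um]

theorem um_mul (a b a' b' : F) : um σ a b * um σ a' b' = um σ (a + a') (b + b' - σ a * a') := by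
  ext i j; fin_cases i <;> fin_cases j <;>
    simp [um, Matrix.mul_apply, Fin.sum_univ_three, map_add] <;> ring

variable (hσ : ∀ x, σ (σ x) = x)
include hσ

theorem um_rel {a b : F} (h : Iso σ (um σ a b)) : b + σ b + a * σ a = 0 := by
  have e := congrFun (congrFun h 2) 2
  simp [um, J3, Matrix.mul_apply, Fin.sum_univ_three, Matrix.transpose_apply] at e
  linear_combination e

theorem iso_um {a b : F} (h : b + σ b + a * σ a = 0) : Iso σ (um σ a b) := by
  ext i j; fin_cases i <;> fin_cases j <;>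
    simp [um, J3, Matrix.mul_apply, Fin.sum_univ_three, Matrix.transpose_apply, map_neg, hσ] <;>
    linear_combination h

theorem lm_rel {d : F} (h : Iso σ (lm d)) : d + σ d = 0 := by
  have e := congrFun (congrFun h 0) 0
  simp [lm, J3, Matrix.mul_apply, Fin.sum_univ_three, Matrix.transpose_apply] at e
  linear_combination e

/-- The column of a special shape gives the lower long root group. -/
theorem lower_of_upper (h0 : ∀ d : F, d + σ d = 0 → In H (um σ 0 d)) {W : M3} (hW : In H W) (w00 : W 0 0 = 0)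
    (w10 : W 1 0 = 0) (w01 : W 0 1 = 0) {d : F} (hd : d + σ d = 0) : In H (lm d) := by
  have e := congrFun (congrFun hW.iso 0) 2
  simp [J3, Matrix.mul_apply, Fin.sum_univ_three, Matrix.transpose_apply, w00, w10] at e
  have hk : W 2 0 ≠ 0 := fun h => by rw [h] at e; simp at e
  have hk' : σ (W 2 0) ≠ 0 := fun h => hk (by rw [← hσ (W 2 0), h, map_zero])
  set δ := d / (W 2 0 * σ (W 2 0)) with hδ
  have hδ0 : δ + σ δ = 0 := by
    rw [hδ, map_div₀, map_mul, hσ, mul_comm (σ (W 2 0)), ← add_div, hd, zero_div]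
  have e' : W 0 2 * σ (W 2 0) = 1 := by
    have := congrArg σ e
    simp [hσ] at this
    linear_combination this
  refine hW.conj (h0 δ hδ0) ?_
  ext i j; fin_cases i <;> fin_cases j <;>
    simp [um, lm, Matrix.mul_apply, Fin.sum_univ_three, w00, w10, w01]
  rw [hδ]
  field_simp
  linear_combination (d : F) * (-e')

/-- The split torus. -/
theorem torus_of_roots (h0 : ∀ d : F, d + σ d = 0 → In H (um σ 0 d)) (hl : ∀ d : F, d + σ d = 0 → In H (lm d))
    {δ : F} (hδ : δ + σ δ = 0) (hδ0 : δ ≠ 0) {t : F} (ht : σ t = t) (ht0 : t ≠ 0) : In H (dm t 1 t⁻¹) := by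
  have hw : ∀ x : F, x + σ x = 0 → x ≠ 0 → In H (!![0, 0, x; 0, 1, 0; -x⁻¹, 0, 0] : M3) := by
    intro x hx hx0
    have hx' : -x⁻¹ + σ (-x⁻¹) = 0 := by
      rw [map_neg, map_inv₀, eq_neg_of_add_eq_zero_right hx, inv_neg, neg_neg, neg_add_cancel]
    have e : (!![0, 0, x; 0, 1, 0; -x⁻¹, 0, 0] : M3) = um σ 0 x * lm (-x⁻¹) * um σ 0 x := by
      ext i j; fin_cases i <;> fin_cases j <;>
        simp [um, lm, Matrix.mul_apply, Fin.sum_univ_three, hx0]
    rw [e]
    exact ((h0 x hx).mul (hl _ hx')).mul (h0 x hx)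
  have h1 : -(t * δ) + σ (-(t * δ)) = 0 := by
    rw [map_neg, map_mul, ht]; linear_combination (-t) * hδ
  have e : dm t 1 t⁻¹ = (!![0, 0, -(t * δ); 0, 1, 0; -(-(t * δ))⁻¹, 0, 0] : M3) *
      !![0, 0, δ; 0, 1, 0; -δ⁻¹, 0, 0] := by
    ext i j; fin_cases i <;> fin_cases j <;>
      simp [dm, Matrix.mul_apply, Fin.sum_univ_three] <;> field_simp
  rw [e]
  exact (hw _ h1 (neg_ne_zero.2 (mul_ne_zero ht0 hδ0))).mul (hw _ hδ hδ0)

/-- All upper unitriangular elements. -/
theorem upper_full (h0 : ∀ d : F, d + σ d = 0 → In H (um σ 0 d))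
    (htor : ∀ t : F, σ t = t → t ≠ 0 → In H (dm t 1 t⁻¹)) {a b a' b' : F} (h1 : In H (um σ a b))
    (h2 : In H (um σ a' b')) (hind : a' * σ a ≠ a * σ a') {A B : F} (hAB : B + σ B + A * σ A = 0) :
    In H (um σ A B) := by
  have hden : a' * σ a - a * σ a' ≠ 0 := sub_ne_zero.2 hind
  have hscale : ∀ a b : F, In H (um σ a b) → ∀ t : F, σ t = t → In H (um σ (t * a) (t ^ 2 * b)) := by
    intro a b h t ht
    by_cases ht0 : t = 0
    · subst ht0; simp [um_zero]; exact In.one
    · refine (htor t ht ht0).conj h ?_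
      ext i j; fin_cases i <;> fin_cases j <;>
        simp [um, dm, Matrix.mul_apply, Fin.sum_univ_three, map_mul, ht] <;> field_simp
  set β := (A * σ a - σ A * a) / (a' * σ a - a * σ a') with hβdef
  have hβ : σ β = β := by
    rw [hβdef, map_div₀]
    simp only [map_sub, map_mul, hσ]
    rw [← neg_div_neg_eq]
    congr 1 <;> ring
  set α := (A - β * a') / a with hαdef
  have ha : a ≠ 0 := fun h => hind (by simp [h])
  have ha' : σ a ≠ 0 := fun h => ha (by rw [← hσ a, h, map_zero])
  have hα : σ α = α := by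
    rw [hαdef, map_div₀, map_sub, map_mul, hβ, div_eq_div_iff ha' ha]
    have : β * (a' * σ a - a * σ a') = A * σ a - σ A * a := by rw [hβdef, div_mul_cancel₀ _ hden]
    linear_combination this
  have h3 := (hscale a b h1 α hα).mul (hscale a' b' h2 β hβ)
  rw [um_mul] at h3
  have hA : α * a + β * a' = A := by rw [hαdef, div_mul_cancel₀ _ ha, sub_add_cancel]
  rw [hA] at h3
  set B' := α ^ 2 * b + β ^ 2 * b' - σ (α * a) * (β * a')
  have hr := um_rel hσ h3.iso
  have hd : (B - B') + σ (B - B') = 0 := by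
    rw [map_sub]; linear_combination hAB - hr
  have e : um σ A B = um σ A B' * um σ 0 (B - B') := by
    rw [um_mul]; simp
  rw [e]
  exact h3.mul (h0 _ hd)

/-- Transvection matrices at an isotropic vector. -/
def tm (σ : F →+* F) (x : Fin 3 → F) (c : F) : M3 :=
  1 + c • vecMulVec x ![σ (x 2), σ (x 1), σ (x 0)]

/-- The criterion: all transvections are obtained. -/
theorem transvection_mem (h0 : ∀ d : F, d + σ d = 0 → In H (um σ 0 d)) {a b a' b' : F}
    (h1 : In H (um σ a b)) (h2 : In H (um σ a' b')) (hind : a' * σ a ≠ a * σ a') {W : M3} (hW : In H W)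
    (w00 : W 0 0 = 0) (w10 : W 1 0 = 0) (w01 : W 0 1 = 0) {x : Fin 3 → F} {c : F}
    (hx : x 0 * σ (x 2) + x 1 * σ (x 1) + x 2 * σ (x 0) = 0) (hiso : Iso σ (tm σ x c)) :
    In H (tm σ x c) := by
  have hl : ∀ d : F, d + σ d = 0 → In H (lm d) := fun d hd => lower_of_upper hσ h0 hW w00 w10 w01 hd
  have hδ : (a' * σ a - a * σ a') + σ (a' * σ a - a * σ a') = 0 := by
    simp [hσ]; ring
  have htor := fun t ht ht0 => torus_of_roots hσ h0 hl hδ (sub_ne_zero.2 hind) (t := t) ht ht0
  by_cases hx2 : x 2 = 0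
  · have hx1 : x 1 = 0 := by
      rw [hx2, map_zero, mul_zero, zero_mul, zero_add, add_zero, mul_eq_zero] at hx
      exact hx.elim id fun h => by rw [← hσ (x 1), h, map_zero]
    have e : tm σ x c = um σ 0 (c * (x 0 * σ (x 0))) := by
      ext i j; fin_cases i <;> fin_cases j <;> simp [tm, um, vecMulVec_apply, hx1, hx2]
    rw [e] at hiso ⊢
    refine h0 _ ?_
    have := um_rel hσ hiso
    simpa using this
  · have hx2' : σ (x 2) ≠ 0 := fun h => hx2 (by rw [← hσ (x 2), h, map_zero])
    set A := x 1 / x 2 with hA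
    set B := x 0 / x 2 with hB
    have hAB : B + σ B + A * σ A = 0 := by
      rw [hA, hB, map_div₀, map_div₀]; field_simp; linear_combination hx
    have hU := upper_full hσ h0 htor h1 h2 hind hAB
    set d := c * (x 2 * σ (x 2)) with hd
    have hBA : σ B = -B - A * σ A := by linear_combination hAB
    have e : um σ A B * lm d = tm σ x c * um σ A B := by
      have x0 : x 0 = B * x 2 := by rw [hB, div_mul_cancel₀ _ hx2]
      have x1 : x 1 = A * x 2 := by rw [hA, div_mul_cancel₀ _ hx2]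
      ext i j; fin_cases i <;> fin_cases j <;>
        simp [tm, um, lm, vecMulVec_apply, Matrix.mul_apply, Fin.sum_univ_three, x0, x1, map_mul, hd, hBA] <;>
        ring
    have hI : Iso σ (lm d) := by
      have h' := Iso.mul σ hiso (iso_um hσ hAB)
      rw [← e] at h'
      have hinv : um σ (-A) (σ B) * um σ A B = 1 := by
        rw [um_mul, map_neg, neg_mul, sub_neg_eq_add, neg_add_cancel]
        rw [show σ B + B + σ A * A = 0 by linear_combination hAB, um_zero]
      have h'' := Iso.mul σ (iso_um hσ (a := -A) (b := σ B) (by rw [hσ, map_neg]; linear_combination hAB)) h'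
      rwa [← Matrix.mul_assoc, hinv, Matrix.one_mul] at h''
    exact hU.conj (hl d (lm_rel hσ hI)) e

end Cfsg.Agent.Lib.SuThreeGen
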