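import Cfsg.Agent.Lib.SuThreeGen.Pair
import Mathlib

/-!
Matrices given by codes of field elements.
-/

set_option autoImplicit false
set_option linter.unusedSectionVars false
set_option linter.unusedSimpArgs false

namespace Cfsg.Agent.Lib.SuThreeGen

open Matrix

variable {F : Type*} [Field F]

/-- Code arithmetic with its meaning. -/
structure Coding (F : Type*) [Field F] (add mul : ℕ → ℕ → ℕ) where
  dec : ℕ → F
  dec_zero : dec 0 = 0
  dec_one : dec 1 = 1
  dec_add : ∀ x y, dec (add x y) = dec x + dec y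
  dec_mul : ∀ x y, dec (mul x y) = dec x * dec y

/-- Nine codes in rows. -/
abbrev M9 := ℕ × ℕ × ℕ × ℕ × ℕ × ℕ × ℕ × ℕ × ℕ

variable {add mul : ℕ → ℕ → ℕ}

/-- Row by column. -/
def dot3 (add mul : ℕ → ℕ → ℕ) (a b c x y z : ℕ) : ℕ := add (add (mul a x) (mul b y)) (mul c z)

/-- Product of code matrices. -/
def mm (add mul : ℕ → ℕ → ℕ) : M9 → M9 → M9
  | (a, b, c, d, e, f, g, h, i), (A, B, C, D, E, G, H, I, J) =>
    (dot3 add mul a b c A D H, dot3 add mul a b c B E I, dot3 add mul a b c C G J,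
     dot3 add mul d e f A D H, dot3 add mul d e f B E I, dot3 add mul d e f C G J,
     dot3 add mul g h i A D H, dot3 add mul g h i B E I, dot3 add mul g h i C G J)

/-- The matrix of a code matrix. -/
def toM (dec : ℕ → F) : M9 → Matrix (Fin 3) (Fin 3) F
  | (a, b, c, d, e, f, g, h, i) => !![dec a, dec b, dec c; dec d, dec e, dec f; dec g, dec h, dec i]

theorem Coding.toM_mm (C : Coding F add mul) : ∀ X Y : M9,
    toM C.dec (mm add mul X Y) = toM C.dec X * toM C.dec Y := by
  rintro ⟨a, b, c, d, e, f, g, h, i⟩ ⟨A, B, D', D, E, G, H, I, J⟩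
  ext r s; fin_cases r <;> fin_cases s <;>
    simp [toM, mm, dot3, Matrix.mul_apply, Fin.sum_univ_three, C.dec_add, C.dec_mul]

/-- A word in code matrices. -/
def word (add mul : ℕ → ℕ → ℕ) : List M9 → M9
  | [] => (1, 0, 0, 0, 1, 0, 0, 0, 1)
  | x :: r => mm add mul x (word add mul r)

variable {σ : F →+* F} {H : Subgroup (UJ σ)}

theorem Coding.in_mm (C : Coding F add mul) {X Y : M9} (hX : In H (toM C.dec X)) (hY : In H (toM C.dec Y)) :
    In H (toM C.dec (mm add mul X Y)) := by
  rw [C.toM_mm]; exact hX.mul hY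

theorem Coding.in_word (C : Coding F add mul) : ∀ l : List M9, (∀ x ∈ l, In H (toM C.dec x)) →
    In H (toM C.dec (word add mul l))
  | [], _ => by
    have : toM C.dec (word add mul []) = 1 := by
      ext r s; fin_cases r <;> fin_cases s <;> simp [toM, word, C.dec_zero, C.dec_one]
    rw [this]; exact In.one
  | x :: r, h => C.in_mm (h x (by simp)) (C.in_word r fun y hy => h y (by simp [hy]))

theorem In.cancelLeft {A B Z : Matrix (Fin 3) (Fin 3) F} (hA : In H A) (hB : In H B) (e : A * Z = B) :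
    In H Z := by
  obtain ⟨a, ha, rfl⟩ := hA; obtain ⟨b, hb, rfl⟩ := hB
  refine ⟨a⁻¹ * b, H.mul_mem (H.inv_mem ha) hb, ?_⟩
  rw [mat_mul, ← e, ← Matrix.mul_assoc, ← mat_mul, inv_mul_cancel]
  exact Matrix.one_mul Z

theorem Coding.in_cancelLeft (C : Coding F add mul) {X Y Z : M9} (hX : In H (toM C.dec X)) (hY : In H (toM C.dec Y))
    (e : mm add mul X Z = Y) : In H (toM C.dec Z) :=
  hX.cancelLeft hY (by rw [← C.toM_mm, e])

theorem Coding.in_inv (C : Coding F add mul) {X Y : M9} (hX : In H (toM C.dec X))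
    (e : mm add mul Y X = (1, 0, 0, 0, 1, 0, 0, 0, 1)) : In H (toM C.dec Y) :=
  hX.inv (by
    rw [← C.toM_mm, e]
    ext r s; fin_cases r <;> fin_cases s <;> simp [toM, C.dec_zero, C.dec_one])

theorem Coding.in_conj (C : Coding F add mul) {X Y Z : M9} (hX : In H (toM C.dec X)) (hY : In H (toM C.dec Y))
    (e : mm add mul X Y = mm add mul Z X) : In H (toM C.dec Z) :=
  hX.conj hY (by rw [← C.toM_mm, ← C.toM_mm, e])

theorem Coding.ne_zero (C : Coding F add mul) {x i : ℕ} (e : mul x i = 1) : C.dec x ≠ 0 := fun h => by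
  have := C.dec_mul x i
  rw [e, C.dec_one, h, zero_mul] at this
  exact one_ne_zero this

end Cfsg.Agent.Lib.SuThreeGen
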