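import Cfsg.Agent.Lib.SuThreeGen.Arith
import Cfsg.Agent.Lib.SuThreeGen.Code
import Mathlib

/-!
The field with sixty-four elements.
-/

set_option autoImplicit false
set_option linter.unusedSectionVars false
set_option linter.unusedSimpArgs false

namespace Cfsg.Agent.Lib.SuThreeGen

open Matrix
open Cfsg.Agent.Lib.Classical (conjHom conjHom_apply conjHom_conjHom)

/-- Multiplication by the root, on codes. -/
def xt (x : ℕ) : ℕ := Nat.xor (2 * (x % 32)) (if x.testBit 5 then 3 else 0)

/-- Product of codes. -/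
def mul64 (x y : ℕ) : ℕ :=
  Nat.xor (if y.testBit 0 then x else 0) (Nat.xor (if y.testBit 1 then xt x else 0)
    (Nat.xor (if y.testBit 2 then xt (xt x) else 0) (Nat.xor (if y.testBit 3 then xt (xt (xt x)) else 0)
      (Nat.xor (if y.testBit 4 then xt (xt (xt (xt x))) else 0)
        (if y.testBit 5 then xt (xt (xt (xt (xt x)))) else 0)))))

/-- Conjugate of a code. -/
def sig64 (x : ℕ) : ℕ :=
  let a := mul64 x x
  let b := mul64 a a
  mul64 b b

variable {F : Type*} [Field F]

/-- Meaning of a code. -/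
def dec64 (θ : F) (x : ℕ) : F :=
  (if x.testBit 0 then 1 else 0) + (if x.testBit 1 then θ else 0) + (if x.testBit 2 then θ ^ 2 else 0) +
    (if x.testBit 3 then θ ^ 3 else 0) + (if x.testBit 4 then θ ^ 4 else 0) + (if x.testBit 5 then θ ^ 5 else 0)

variable [CharP F 2]

theorem ite_xor (a b : Bool) (z : F) :
    (if (a ^^ b) = true then z else 0) = (if a = true then z else 0) + (if b = true then z else 0) := by
  cases a <;> cases b <;> simp [CharTwo.add_self_eq_zero]

theorem dec64_xor (θ : F) (x y : ℕ) : dec64 θ (Nat.xor x y) = dec64 θ x + dec64 θ y := by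
  have h : ∀ i, (Nat.xor x y).testBit i = (x.testBit i ^^ y.testBit i) := fun i => Nat.testBit_xor x y i
  simp only [dec64, h, ite_xor]
  ring

variable {θ : F} (hθ : θ ^ 6 = θ + 1)
include hθ

theorem dec64_xt (x : ℕ) : dec64 θ (xt x) = θ * dec64 θ x := by
  have h0 : (2 * (x % 32)).testBit 0 = false := by simp [Nat.testBit_zero]
  have hs : ∀ i, (2 * (x % 32)).testBit (i + 1) = (decide (i < 5) && x.testBit i) := fun i => by
    rw [Nat.testBit_succ, Nat.mul_div_cancel_left _ (by norm_num), show (32 : ℕ) = 2 ^ 5 from rfl,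
      Nat.testBit_mod_two_pow]
  rw [xt, dec64_xor]
  have e1 : dec64 θ (2 * (x % 32)) = θ * ((if x.testBit 0 then 1 else 0) + (if x.testBit 1 then θ else 0) +
      (if x.testBit 2 then θ ^ 2 else 0) + (if x.testBit 3 then θ ^ 3 else 0) +
      (if x.testBit 4 then θ ^ 4 else 0)) := by
    simp [dec64, h0, hs 0, hs 1, hs 2, hs 3, hs 4, mul_add, mul_ite, ← pow_succ']
    ring_nf
  have e2 : dec64 θ (if x.testBit 5 then 3 else 0) = θ * (if x.testBit 5 then θ ^ 5 else 0) := by
    cases x.testBit 5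
    · simp [dec64]
    · rw [if_pos rfl, if_pos rfl]
      simp [dec64, Nat.testBit_succ, Nat.testBit_zero]
      linear_combination -hθ
  rw [e1, e2]
  simp only [dec64]
  ring

theorem dec64_mul (x y : ℕ) : dec64 θ (mul64 x y) = dec64 θ x * dec64 θ y := by
  have hite : ∀ (c : Bool) (n : ℕ), dec64 θ (if c then n else 0) = if c then dec64 θ n else 0 := fun c n => by
    cases c <;> simp [dec64]
  simp only [mul64, dec64_xor, hite, dec64_xt hθ]
  conv_rhs => rw [show dec64 θ y = (if y.testBit 0 then 1 else 0) + (if y.testBit 1 then θ else 0) +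
    (if y.testBit 2 then θ ^ 2 else 0) + (if y.testBit 3 then θ ^ 3 else 0) +
    (if y.testBit 4 then θ ^ 4 else 0) + (if y.testBit 5 then θ ^ 5 else 0) from rfl]
  simp only [mul_add, mul_ite, mul_one, mul_zero]
  split_ifs <;> ring

/-- The coding. -/
def coding64 : Coding F Nat.xor mul64 where
  dec := dec64 θ
  dec_zero := by simp [dec64]
  dec_one := by simp [dec64, Nat.testBit_succ]
  dec_add := dec64_xor θ
  dec_mul := dec64_mul hθ

omit hθ

variable [Fintype F]

theorem exists_root64 (hF : Fintype.card F = 8 ^ 2) : ∃ θ : F, θ ^ 6 = θ + 1 := by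
  classical
  let f : Polynomial (ZMod 2) := Polynomial.X ^ 6 + Polynomial.X + 1
  have hdvd : f ∣ Polynomial.X ^ 64 - Polynomial.X := by
    rw [← AdjoinRoot.mk_eq_zero, map_sub, map_pow, AdjoinRoot.mk_X]
    set α := AdjoinRoot.root f
    have h2 : (2 : AdjoinRoot f) = 0 := by
      have h : (AdjoinRoot.of f) (2 : ZMod 2) = 0 := by rw [show (2 : ZMod 2) = 0 from rfl, map_zero]
      rwa [map_ofNat] at h
    have hα : α ^ 6 + α + 1 = 0 := by
      have := AdjoinRoot.mk_self (f := f)
      rw [show AdjoinRoot.mk f f = α ^ 6 + α + 1 by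
        conv_lhs => arg 2; simp only [f]
        simp only [map_add, map_pow, AdjoinRoot.mk_X, map_one]; rfl] at this
      exact this
    have h8 : α ^ 8 = α ^ 3 + α ^ 2 := by linear_combination α ^ 2 * hα - (α ^ 3 + α ^ 2) * h2
    have h16 : α ^ 16 = α ^ 4 + α + 1 := by
      linear_combination (α ^ 8 + α ^ 3 + α ^ 2) * h8 + hα + (α ^ 5 - α - 1) * h2
    have h32 : α ^ 32 = α ^ 3 + 1 := by
      linear_combination (α ^ 16 + α ^ 4 + α + 1) * h16 + h8 + (α ^ 5 + α ^ 4 + α + α ^ 2) * h2
    linear_combination (α ^ 32 + α ^ 3 + 1) * h32 + hα + (α ^ 3 - α) * h2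
  haveI : Fact (Nat.Prime 2) := ⟨Nat.prime_two⟩
  let φ : ZMod 2 →+* F := ZMod.castHom (dvd_refl 2) F
  letI : Algebra (ZMod 2) F := ZMod.algebra F 2
  have hdvd' := Polynomial.map_dvd φ hdvd
  rw [Polynomial.map_sub, Polynomial.map_pow, Polynomial.map_X] at hdvd'
  have hdeg : f.natDegree = 6 := by simp [f]; compute_degree!
  have hdeg' : (f.map φ).natDegree = 6 := by rw [Polynomial.natDegree_map_eq_of_injective φ.injective, hdeg]
  have hne : f.map φ ≠ 0 := fun h => by rw [h, Polynomial.natDegree_zero] at hdeg'; omega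
  have hsp : (Polynomial.X ^ 64 - Polynomial.X : Polynomial F).Splits := by
    have h := FiniteField.isSplittingField_sub F (ZMod 2)
    rw [hF] at h
    simpa using h.splits
  have hs : (f.map φ).Splits :=
    hsp.of_dvd (FiniteField.X_pow_card_sub_X_ne_zero F (by norm_num)) hdvd'
  obtain ⟨θ, hθ⟩ := hs.exists_eval_eq_zero (by
    rw [Polynomial.degree_eq_natDegree hne, hdeg']; norm_num)
  refine ⟨θ, ?_⟩
  have h3 : θ ^ 6 + θ + 1 = 0 := by simpa [f] using hθ
  linear_combination h3 - (θ + 1) * (CharTwo.two_eq_zero : (2 : F) = 0)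

set_option maxHeartbeats 800000 in
set_option synthInstance.maxSize 1024 in
theorem gen_eight (hF : Fintype.card F = 8 ^ 2) : Gen (conjHom hF) := by
  obtain ⟨θ, hθ⟩ := exists_root64 hF
  set σ := conjHom hF with hσdef
  have hσ : ∀ x, σ (σ x) = x := conjHom_conjHom hF
  obtain ⟨C, -⟩ : ∃ C : Coding F Nat.xor mul64, True := ⟨coding64 hθ, trivial⟩
  have hsig : ∀ x, σ (C.dec x) = C.dec (sig64 x) := fun x => by
    simp only [sig64]
    rw [C.dec_mul, C.dec_mul, C.dec_mul, conjHom_apply]
    ring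
  have hneg : ∀ x : F, -x = x := CharTwo.neg_eq
  have hm : ∀ x y, C.dec x * C.dec y = C.dec (mul64 x y) := fun x y => (C.dec_mul x y).symm
  set l := C.dec 2 with hldef
  have hl : l ≠ 0 := C.ne_zero (x := 2) (i := 33) (by decide)
  have hS' : l + σ l = C.dec (Nat.xor 2 (sig64 2)) := by
    rw [hldef, hsig, ← C.dec_add]
  have hw : σ l / l = C.dec 6 := by
    rw [div_eq_iff hl, hldef, hsig, hm]
    congr 1
  have hS : l + σ l ≠ 0 := by
    rw [hS']
    exact C.ne_zero (i := 22) (by decide +kernel)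
  have hl' : σ l ≠ 0 := fun h => hl (by rw [← hσ l, h, map_zero])
  obtain ⟨y, hy⟩ := exists_trace_one hF
  refine gen_of_param hσ hy (l := l) (a := C.dec 40) hl hS ?_ fun H hu hw' => ?_
  · rw [hneg, eq_div_iff (mul_ne_zero hl hl'), hS', hsig, hldef, hsig, hm, hm, hm, pow_succ, pow_two, hm, hm]
    congr 1
  have hb : pb σ l = C.dec 36 := by
    rw [pb, hw, show (3 : F) = C.dec 1 from by
      rw [C.dec_one]; linear_combination (CharTwo.two_eq_zero : (2 : F) = 0), ← C.dec_add, hldef, hsig, hm]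
    congr 1
  have htm : ∀ a b : ℕ, toM C.dec (1, sig64 a, b, 0, 1, a, 0, 0, 1) = um σ (C.dec a) (C.dec b) := fun a b => by
    simp [toM, um, C.dec_zero, C.dec_one, hsig, hneg]
  rw [hb, ← htm] at hu
  have hm9 : toM C.dec (0, 0, 2, 0, 6, 0, 46, 0, 0) = wm σ l := by
    have : (σ l)⁻¹ = C.dec 46 := by
      refine inv_eq_of_mul_eq_one_left ?_
      rw [hldef, hsig, hm, ← C.dec_one]
      congr 1
    rw [hldef] at hw this ⊢
    simp [toM, wm, C.dec_zero, hw, this, hneg]
  rw [← hm9] at hw'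
  let u : M9 := (1, sig64 40, 36, 0, 1, 40, 0, 0, 1)
  let U : M9 := (1, sig64 40, sig64 36, 0, 1, 40, 0, 0, 1)
  let m : M9 := (0, 0, 2, 0, 6, 0, 46, 0, 0)
  have hU : In H (toM C.dec U) := C.in_inv hu (by decide +kernel)
  have hAll : ∀ w : List M9, (∀ x ∈ w, x = u ∨ x = U ∨ x = m) → In H (toM C.dec (word Nat.xor mul64 w)) :=
    fun w h => C.in_word w fun x hx => by
      rcases h x hx with rfl | rfl | rfl
      · exact hu
      · exact hU
      · exact hw'
  have hA := hAll [m, u, m, m, u, m, U, m] (by simp)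
  have hB := hAll [u, m, U, m, u, m] (by simp)
  let Z : M9 := (12, 28, 55, 0, 31, 14, 0, 0, 33)
  have hZ : In H (toM C.dec Z) := C.in_cancelLeft hB hA (by decide +kernel)
  let u' : M9 := (1, sig64 22, 36, 0, 1, 22, 0, 0, 1)
  have hu' : In H (toM C.dec u') := C.in_conj (C.in_mm hw' hw') hu (by decide +kernel)
  let a' := 22
  rw [htm] at hu hu'
  obtain ⟨c, hcdef⟩ : ∃ c, c = C.dec (mul64 12 (sig64 12)) := ⟨_, rfl⟩
  have hc : c ^ 7 = 1 ∧ c ≠ 1 := by
    constructor
    · rw [hcdef, show ∀ x : F, x ^ 7 = x * x * x * x * x * x * x from fun x => by ring, hm, hm, hm, hm, hm, hm,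
        ← C.dec_one]
      congr 1
    · intro h
      have h1 : C.dec (Nat.xor (mul64 12 (sig64 12)) 1) = 0 := by
        rw [C.dec_add, ← hcdef, h, C.dec_one, CharTwo.add_self_eq_zero]
      exact C.ne_zero (i := 15) (by decide +kernel) h1
  have hstep : ∀ r ∈ ({c} : Set F), ∀ d ∈ zK H, r * d ∈ zK H := by
    intro r hr d hd
    rw [Set.mem_singleton_iff.1 hr]
    refine In.conj hZ hd ?_
    have e : C.dec 12 = c * C.dec 33 := by
      rw [hcdef, hm]; congr 1
    ext i j; fin_cases i <;> fin_cases j <;>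
      simp [Z, toM, um, Matrix.mul_apply, Fin.sum_univ_three, C.dec_zero, e] <;> ring
  have hfix : ∀ x : F, σ x = x → x ∈ Subring.closure ({c} : Set F) := by
    intro x hx
    rcases eq_or_ne x 0 with rfl | hx0
    · exact zero_mem _
    have hx7 : x ^ 7 = 1 := by
      rw [conjHom_apply] at hx
      exact mul_right_cancel₀ hx0 (by rw [one_mul, ← pow_succ]; exact hx)
    haveI : Fact (Nat.Prime 7) := ⟨by norm_num⟩
    have hp : IsPrimitiveRoot c 7 := by
      rw [IsPrimitiveRoot.iff_orderOf, orderOf_eq_prime hc.1 hc.2]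
    obtain ⟨i, -, hi⟩ := hp.eq_pow_of_pow_eq_one hx7
    rw [← hi]
    exact Subring.pow_mem (Subring.closure ({c} : Set F)) (Subring.subset_closure (Set.mem_singleton c)) i
  obtain ⟨e, hedef⟩ : ∃ e, e = σ (C.dec 40) * C.dec a' - σ (C.dec a') * C.dec 40 := ⟨_, rfl⟩
  have he : e ∈ zK H := by
    rw [hedef]
    exact commutator_mem (b1 := C.dec 36) (b2 := C.dec 36) hu' hu
  have he0 : e ≠ 0 := by
    rw [hedef, hsig, hsig, hm, hm, CharTwo.sub_eq_add, ← C.dec_add]
    exact C.ne_zero (i := 23) (by decide +kernel)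
  refine ⟨fun d hd => ?_, C.dec a', C.dec 36, hu', fun h => he0 ?_⟩
  · have hd' : σ (d / e) = d / e := by
      have : σ e = -e := by rw [hedef, map_sub, map_mul, map_mul, hσ, hσ]; ring
      rw [map_div₀, this, eq_neg_of_add_eq_zero_right hd, neg_div_neg_eq]
    have := mul_mem_of_closure hstep (hfix _ hd') e he
    rwa [div_mul_cancel₀ _ he0] at this
  · rw [hedef]; linear_combination h

end Cfsg.Agent.Lib.SuThreeGen
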