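import Cfsg.Agent.Lib.SuThreeGen.Arith
import Cfsg.Agent.Lib.SuThreeGen.Code
import Mathlib

/-!
The field with twenty-five elements.
-/

set_option autoImplicit false
set_option linter.unusedSectionVars false
set_option linter.unusedSimpArgs false

namespace Cfsg.Agent.Lib.SuThreeGen

open Matrix
open Cfsg.Agent.Lib.Classical (conjHom conjHom_apply conjHom_conjHom)

/-- Sum of codes. -/
def add25 (x y : ℕ) : ℕ := (x + y) % 5 + 5 * ((x / 5 + y / 5) % 5)

/-- Product of codes. -/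
def mul25 (x y : ℕ) : ℕ :=
  (x * y + 3 * (x / 5 * (y / 5))) % 5 + 5 * ((x * (y / 5) + x / 5 * y + x / 5 * (y / 5)) % 5)

/-- Conjugate of a code. -/
def sig25 (x : ℕ) : ℕ :=
  let a := mul25 x x
  mul25 (mul25 a a) x

variable {F : Type*} [Field F] [CharP F 5]

/-- Meaning of a code. -/
def dec25 (w : F) (x : ℕ) : F := (x : F) + ((x / 5 : ℕ) : F) * w

theorem cast_mod_five (n : ℕ) : ((n % 5 : ℕ) : F) = (n : F) :=
  (CharP.natCast_eq_natCast F 5).2 (Nat.mod_modEq n 5)

theorem five_eq_zero : (5 : F) = 0 := by exact_mod_cast CharP.cast_eq_zero F 5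

theorem dec25_pack (w : F) (a b : ℕ) : dec25 w (a % 5 + 5 * (b % 5)) = (a : F) + (b : F) * w := by
  have h1 : (a % 5 + 5 * (b % 5)) / 5 = b % 5 := by omega
  rw [dec25, h1, cast_mod_five, Nat.cast_add, Nat.cast_mul, cast_mod_five, cast_mod_five]
  linear_combination (b : F) * five_eq_zero (F := F)

/-- The coding. -/
def coding25 {w : F} (hw : w ^ 2 = w + 3) : Coding F add25 mul25 where
  dec := dec25 w
  dec_zero := by simp [dec25]
  dec_one := by simp [dec25]
  dec_add x y := by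
    rw [add25, dec25_pack, dec25, dec25]; push_cast; ring
  dec_mul x y := by
    rw [mul25, dec25_pack, dec25, dec25]; push_cast
    linear_combination -((x / 5 : ℕ) : F) * ((y / 5 : ℕ) : F) * hw

variable [Fintype F]

theorem exists_root25 (hF : Fintype.card F = 5 ^ 2) : ∃ w : F, w ^ 2 = w + 3 := by
  have h5 := five_eq_zero (F := F)
  have h3 : (3 : F) ≠ 0 := by
    intro h
    exact one_ne_zero (show (1 : F) = 0 by linear_combination 2 * h - h5)
  have hchar : ringChar F ≠ 2 := by rw [ringChar.eq F 5]; norm_num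
  obtain ⟨s, hs⟩ : IsSquare (3 : F) := by
    rw [FiniteField.isSquare_iff hchar h3, hF]
    norm_num
    linear_combination (106288 : F) * h5
  exact ⟨(1 + s) * 3, by linear_combination (-9 : F) * hs + (3 * s + 6) * h5⟩

theorem prime_field_five {x : F} (hx : x ^ 5 = x) : ∃ k : ℕ, x = (k : F) := by
  have h : x * (x - 1) * (x - 2) * (x - 3) * (x - 4) = 0 := by
    linear_combination hx + (-2 * x ^ 4 + 7 * x ^ 3 - 10 * x ^ 2 + 5 * x) * five_eq_zero (F := F)
  simp only [mul_eq_zero, sub_eq_zero] at h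
  rcases h with (((h | h) | h) | h) | h
  · exact ⟨0, by rw [h, Nat.cast_zero]⟩
  · exact ⟨1, by rw [h, Nat.cast_one]⟩
  · exact ⟨2, by rw [h]; norm_num⟩
  · exact ⟨3, by rw [h]; norm_num⟩
  · exact ⟨4, by rw [h]; norm_num⟩

set_option maxHeartbeats 800000 in
set_option synthInstance.maxSize 1024 in
theorem gen_five (hF : Fintype.card F = 5 ^ 2) : Gen (conjHom hF) := by
  obtain ⟨w, hw⟩ := exists_root25 hF
  set σ := conjHom hF with hσdef
  have hσ : ∀ x, σ (σ x) = x := conjHom_conjHom hF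
  obtain ⟨C, -⟩ : ∃ C : Coding F add25 mul25, True := ⟨coding25 hw, trivial⟩
  have hsig : ∀ x, σ (C.dec x) = C.dec (sig25 x) := fun x => by
    simp only [sig25]
    rw [C.dec_mul, C.dec_mul, C.dec_mul, conjHom_apply]
    ring
  have hm : ∀ x y, C.dec x * C.dec y = C.dec (mul25 x y) := fun x y => (C.dec_mul x y).symm
  have ha : ∀ x y, C.dec x + C.dec y = C.dec (add25 x y) := fun x y => (C.dec_add x y).symm
  have hm1 : (-1 : F) = C.dec 4 := by
    have h : C.dec (add25 4 1) = 0 := by rw [show add25 4 1 = 0 from rfl, C.dec_zero]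
    rw [C.dec_add, C.dec_one] at h
    linear_combination -h
  have htm : ∀ a b : ℕ, toM C.dec (1, mul25 4 (sig25 a), b, 0, 1, a, 0, 0, 1) = um σ (C.dec a) (C.dec b) :=
    fun a b => by simp [toM, um, C.dec_zero, C.dec_one, C.dec_mul, hsig, ← hm1]
  have hiso : Iso σ (toM C.dec (1, 0, 0, 5, 1, 0, 4, 9, 1)) := by
    have e1 : (toM C.dec (1, 0, 0, 5, 1, 0, 4, 9, 1))ᵀ = toM C.dec (1, 5, 4, 0, 1, 9, 0, 0, 1) := by
      ext i j; fin_cases i <;> fin_cases j <;> simp [toM, Matrix.transpose_apply, C.dec_zero, C.dec_one]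
    have e2 : (toM C.dec (1, 0, 0, 5, 1, 0, 4, 9, 1)).map σ =
        toM C.dec (1, 0, 0, sig25 5, 1, 0, sig25 4, sig25 9, 1) := by
      ext i j; fin_cases i <;> fin_cases j <;> simp [toM, C.dec_zero, C.dec_one, hsig]
    have e3 : (J3 : Matrix (Fin 3) (Fin 3) F) = toM C.dec (0, 0, 1, 0, 1, 0, 1, 0, 0) := by
      ext i j; fin_cases i <;> fin_cases j <;> simp [toM, J3, C.dec_zero, C.dec_one]
    rw [Iso, e1, e2, e3, ← C.toM_mm, ← C.toM_mm]
    congr 1
  have hdet : (toM C.dec (1, 0, 0, 5, 1, 0, 4, 9, 1)).det = 1 := by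
    simp [toM, Matrix.det_fin_three, C.dec_zero, C.dec_one]
  have hu0 : Iso σ (um σ (C.dec 1) (C.dec 2)) := by
    refine iso_um hσ ?_
    rw [hsig, hsig, hm, ha, ha, ← C.dec_zero]
    congr 1
  have hudet : (um σ (C.dec 1) (C.dec 2)).det = 1 := by simp [um, Matrix.det_fin_three]
  let u : UJ σ := ⟨⟨um σ (C.dec 1) (C.dec 2), hudet⟩, hu0⟩
  let g : UJ σ := ⟨⟨toM C.dec (1, 0, 0, 5, 1, 0, 4, 9, 1), hdet⟩, hiso⟩
  refine ⟨u, g, C.dec 1, C.dec 2, rfl, by rw [C.dec_one]; exact one_ne_zero, fun x c hx hxi => ?_⟩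
  set H := Subgroup.closure ({u, g * u * g⁻¹} : Set (UJ σ))
  let mu : M9 := (1, 4, 2, 0, 1, 1, 0, 0, 1)
  let mU : M9 := (1, 1, 2, 0, 1, 4, 0, 0, 1)
  let mv : M9 := (9, 16, 2, 22, 16, 11, 18, 15, 8)
  let mV : M9 := (24, 18, 2, 13, 14, 14, 11, 6, 20)
  have hu : In H (toM C.dec mu) := ⟨u, Subgroup.subset_closure (by simp), (htm 1 2).symm⟩
  have hv : In H (toM C.dec mv) := by
    refine ⟨g * u * g⁻¹, Subgroup.subset_closure (by simp), ?_⟩
    have e : mat σ g * mat σ u = toM C.dec mv * mat σ g := by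
      show toM C.dec (1, 0, 0, 5, 1, 0, 4, 9, 1) * um σ (C.dec 1) (C.dec 2) =
        toM C.dec mv * toM C.dec (1, 0, 0, 5, 1, 0, 4, 9, 1)
      rw [← htm, ← C.toM_mm, ← C.toM_mm]
      congr 1
    rw [mat_mul, mat_mul, e, Matrix.mul_assoc, ← mat_mul, mul_inv_cancel]
    exact Matrix.mul_one _
  have hU : In H (toM C.dec mU) := C.in_inv hu (by decide +kernel)
  have hV : In H (toM C.dec mV) := C.in_inv hv (by decide +kernel)
  have hAll : ∀ l : List M9, (∀ y ∈ l, y = mu ∨ y = mU ∨ y = mv ∨ y = mV) →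
      In H (toM C.dec (word add25 mul25 l)) := fun l h => C.in_word l fun y hy => by
    rcases h y hy with rfl | rfl | rfl | rfl
    · exact hu
    · exact hU
    · exact hv
    · exact hV
  let Z : M9 := (7, 19, 21, 0, 4, 5, 0, 0, 14)
  have hZ : In H (toM C.dec Z) :=
    C.in_cancelLeft (hAll [mu, mv, mu, mv] (by simp)) (hAll [mv, mU, mU, mv] (by simp)) (by decide +kernel)
  let W : M9 := (0, 0, 11, 0, 19, 24, 11, 3, 4)
  have hW : In H (toM C.dec W) := by
    have h := hAll [mv, mU, mV, mV, mu, mu, mv] (by simp)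
    rwa [show word add25 mul25 [mv, mU, mV, mV, mu, mu, mv] = W by decide +kernel] at h
  have hu2 : In H (toM C.dec (1, mul25 4 (sig25 7), 24, 0, 1, 7, 0, 0, 1)) :=
    C.in_conj hZ hu (by decide +kernel)
  rw [htm] at hu2
  have hu' : In H (um σ (C.dec 1) (C.dec 2)) := ⟨u, Subgroup.subset_closure (by simp), rfl⟩
  obtain ⟨e, hedef⟩ : ∃ e, e = σ (C.dec 1) * C.dec 7 - σ (C.dec 7) * C.dec 1 := ⟨_, rfl⟩
  have he : e ∈ zK H := by
    rw [hedef]
    exact commutator_mem (b1 := C.dec 24) (b2 := C.dec 2) hu2 hu'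
  have he0 : e ≠ 0 := by
    rw [hedef, hsig, hsig, hm, hm, sub_eq_add_neg, ← neg_one_mul, hm1, hm, ha]
    exact C.ne_zero (i := 23) (by decide +kernel)
  have h0 : ∀ d : F, d + σ d = 0 → In H (um σ 0 d) := by
    intro d hd
    have hd' : σ (d / e) = d / e := by
      have : σ e = -e := by rw [hedef, map_sub, map_mul, map_mul, hσ, hσ]; ring
      rw [map_div₀, this, eq_neg_of_add_eq_zero_right hd, neg_div_neg_eq]
    rw [conjHom_apply] at hd'
    obtain ⟨k, hk⟩ := prime_field_five hd'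
    have : d = k • e := by rw [nsmul_eq_mul, ← hk, div_mul_cancel₀ _ he0]
    rw [this]
    exact (zK H).nsmul_mem he k
  refine transvection_mem hσ h0 hu' hu2 ?_ hW (C.dec_zero) (C.dec_zero) (C.dec_zero) hx hxi
  intro h
  exact he0 (by rw [hedef]; linear_combination h)

end Cfsg.Agent.Lib.SuThreeGen
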