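import Cfsg.Agent.Lib.SuThreeGen.Pair
import Mathlib

/-!
The generic case of the two generator theorem in dimension three.
-/

set_option autoImplicit false
set_option linter.unusedSectionVars false
set_option linter.unusedSimpArgs false
set_option linter.unusedTactic false
set_option linter.unreachableTactic false

namespace Cfsg.Agent.Lib.SuThreeGen

open Matrix

variable {F : Type*} [Field F] {σ : F →+* F} {H : Subgroup (UJ σ)}

/-- The available long root coefficients. -/
def zK (H : Subgroup (UJ σ)) : AddSubgroup F where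
  carrier := {d | In H (um σ 0 d)}
  zero_mem' := by show In H (um σ 0 0); rw [um_zero]; exact In.one
  add_mem' := fun {a b} ha hb => by
    show In H (um σ 0 (a + b))
    have h := In.mul (show In H (um σ 0 a) from ha) (show In H (um σ 0 b) from hb)
    simpa [um_mul] using h
  neg_mem' := fun {a} ha => by
    show In H (um σ 0 (-a))
    refine In.inv (show In H (um σ 0 a) from ha) ?_
    simp [um_mul, um_zero]

theorem mem_zK {d : F} : d ∈ zK H ↔ In H (um σ 0 d) := Iff.rfl

/-- Stability under a set of scalars passes to the subring they generate. -/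
theorem mul_mem_of_closure {K : AddSubgroup F} {s : Set F} (h : ∀ r ∈ s, ∀ x ∈ K, r * x ∈ K) {r : F}
    (hr : r ∈ Subring.closure s) : ∀ x ∈ K, r * x ∈ K := by
  induction hr using Subring.closure_induction with
  | mem r hr => exact h r hr
  | zero => intro x _; rw [zero_mul]; exact zero_mem _
  | one => intro x hx; rwa [one_mul]
  | add a b _ _ ha hb => intro x hx; rw [add_mul]; exact add_mem (ha x hx) (hb x hx)
  | neg a _ ha => intro x hx; rw [neg_mul]; exact neg_mem (ha x hx)
  | mul a b _ _ ha hb => intro x hx; rw [mul_assoc]; exact ha _ (hb x hx)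

theorem commutator_mem {a1 b1 a2 b2 : F} (h1 : In H (um σ a1 b1)) (h2 : In H (um σ a2 b2)) :
    σ a2 * a1 - σ a1 * a2 ∈ zK H := by
  refine (h2.mul h1).cancel (h1.mul h2) ?_
  rw [um_mul, um_mul, um_mul]
  simp only [map_zero, zero_mul, sub_zero]
  congr 1 <;> ring

variable (hσ : ∀ x, σ (σ x) = x)
include hσ

theorem fixed_mem_closure {z : F} (hz : z * σ z = 1) (hne : z ≠ σ z)
    (hgen : Subring.closure ({z} : Set F) = ⊤) {x : F} (hx : σ x = x) :
    x ∈ Subring.closure ({z + σ z} : Set F) := by
  set A := Subring.closure ({z + σ z} : Set F)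
  have hA : ∀ a ∈ A, σ a = a := by
    intro a ha
    induction ha using Subring.closure_induction with
    | mem r hr => rw [Set.mem_singleton_iff.1 hr, map_add, hσ, add_comm]
    | zero => simp
    | one => simp
    | add a b _ _ h1 h2 => simp [h1, h2]
    | neg a _ h => simp [h]
    | mul a b _ _ h1 h2 => simp [h1, h2]
  have key : ∀ y ∈ Subring.closure ({z} : Set F), ∃ a ∈ A, ∃ b ∈ A, y = a + z * b := by
    intro y hy
    induction hy using Subring.closure_induction with
    | mem r hr => exact ⟨0, zero_mem _, 1, one_mem _, by rw [Set.mem_singleton_iff.1 hr]; ring⟩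
    | zero => exact ⟨0, zero_mem _, 0, zero_mem _, by ring⟩
    | one => exact ⟨1, one_mem _, 0, zero_mem _, by ring⟩
    | add a b _ _ h1 h2 =>
      obtain ⟨a1, ha1, b1, hb1, rfl⟩ := h1
      obtain ⟨a2, ha2, b2, hb2, rfl⟩ := h2
      exact ⟨_, add_mem ha1 ha2, _, add_mem hb1 hb2, by ring⟩
    | neg a _ h =>
      obtain ⟨a1, ha1, b1, hb1, rfl⟩ := h
      exact ⟨_, neg_mem ha1, _, neg_mem hb1, by ring⟩
    | mul a b _ _ h1 h2 =>
      obtain ⟨a1, ha1, b1, hb1, rfl⟩ := h1
      obtain ⟨a2, ha2, b2, hb2, rfl⟩ := h2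
      refine ⟨a1 * a2 - b1 * b2, sub_mem (mul_mem ha1 ha2) (mul_mem hb1 hb2),
        a1 * b2 + b1 * a2 + b1 * b2 * (z + σ z),
        add_mem (add_mem (mul_mem ha1 hb2) (mul_mem hb1 ha2))
          (mul_mem (mul_mem hb1 hb2) (Subring.subset_closure rfl)), ?_⟩
      linear_combination -(b1 * b2) * hz
  obtain ⟨a, ha, b, hb, e⟩ := key x (by rw [hgen]; trivial)
  have e2 := congrArg σ e
  rw [hx, map_add, map_mul, hA a ha, hA b hb, e] at e2
  have : (z - σ z) * b = 0 := by linear_combination e2
  rw [(mul_eq_zero.1 this).resolve_left (sub_ne_zero.2 hne), mul_zero, add_zero] at e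
  rwa [e]

theorem gen_generic {y : F} (hy : y + σ y = 1) {l a : F} (hl : l ≠ 0) (hS : l + σ l ≠ 0)
    (hN : a * σ a = -((l + σ l) ^ 3 / (l * σ l))) (hne : (σ l / l) ^ 3 ≠ σ ((σ l / l) ^ 3))
    (hz : Subring.closure ({(σ l / l) ^ 3} : Set F) = ⊤) : Gen σ := by
  have hl' : σ l ≠ 0 := fun h => hl (by rw [← hσ l, h, map_zero])
  set z := (σ l / l) ^ 3 with hzdef
  have hzn : z * σ z = 1 := by
    rw [hzdef, map_pow, map_div₀, hσ, ← mul_pow, div_mul_div_cancel₀ hl, div_self hl', one_pow]
  have ha0 : a * σ a ≠ 0 := by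
    rw [hN]; exact neg_ne_zero.2 (div_ne_zero (pow_ne_zero 3 hS) (mul_ne_zero hl hl'))
  refine gen_of_param hσ hy hl hS hN fun H hu hw => ?_
  set b := pb σ l
  have hstep : ∀ a₁ : F, In H (um σ a₁ b) → In H (um σ (z * a₁) b) := by
    intro a₁ h
    refine (hw.mul hw).conj h ?_
    rw [hzdef]
    ext i j; fin_cases i <;> fin_cases j <;>
      simp [wm, um, Matrix.mul_apply, Fin.sum_univ_three, hσ] <;> field_simp
  have hk : ∀ k : ℕ, In H (um σ (z ^ k * a) b) := by
    intro k
    induction k with
    | zero => simpa using hu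
    | succ k ih => rw [pow_succ', mul_assoc]; exact hstep _ ih
  set D : ℕ → F := fun k => a * σ a * (z ^ k - σ z ^ k) with hD
  have hDK : ∀ k, D k ∈ zK H := fun k => by
    have := commutator_mem (hk k) hu
    convert this using 1
    simp [hD]; ring
  set K := AddSubgroup.closure (Set.range D) with hK
  have hKle : K ≤ zK H := (AddSubgroup.closure_le _).2 (by rintro _ ⟨k, rfl⟩; exact hDK k)
  have hτ : ∀ r ∈ ({z + σ z} : Set F), ∀ x ∈ K, r * x ∈ K := by
    intro r hr x hx
    rw [Set.mem_singleton_iff.1 hr]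
    induction hx using AddSubgroup.closure_induction with
    | mem x hx =>
      obtain ⟨k, rfl⟩ := hx
      rcases k with _ | k
      · simp [hD]
      · have e : (z + σ z) * D (k + 1) = D (k + 2) + D k := by
          simp only [hD, pow_succ]
          linear_combination (a * σ a * (z ^ k - σ z ^ k)) * hzn
        rw [e]
        exact add_mem (AddSubgroup.subset_closure ⟨_, rfl⟩) (AddSubgroup.subset_closure ⟨_, rfl⟩)
    | zero => simp
    | add x y _ _ h1 h2 => rw [mul_add]; exact add_mem h1 h2
    | neg x _ h => rw [mul_neg]; exact neg_mem h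
  refine ⟨fun d hd => hKle ?_, z * a, b, hstep a hu, ?_⟩
  · have h1 : D 1 ≠ 0 := by
      simp only [hD, pow_one]; exact mul_ne_zero ha0 (sub_ne_zero.2 hne)
    have hs : σ (D 1) = -D 1 := by simp [hD, hσ]; ring
    have hfix : σ (d / D 1) = d / D 1 := by
      rw [map_div₀, hs, eq_neg_of_add_eq_zero_right hd, neg_div_neg_eq]
    have := mul_mem_of_closure hτ (fixed_mem_closure hσ hzn hne hz hfix) (D 1)
      (AddSubgroup.subset_closure ⟨1, rfl⟩)
    rwa [div_mul_cancel₀ _ h1] at this
  · intro e
    rw [map_mul] at e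
    have : (z - σ z) * (a * σ a) = 0 := by linear_combination e
    exact hne (sub_eq_zero.1 ((mul_eq_zero.1 this).resolve_right ha0))

end Cfsg.Agent.Lib.SuThreeGen
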