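import Cfsg.Agent.Lib.SuThreeGen.Base
import Mathlib

/-!
Two conjugate regular unipotent elements in dimension three.
-/

set_option autoImplicit false
set_option linter.unusedSectionVars false
set_option linter.unusedSimpArgs false
set_option linter.unusedTactic false
set_option linter.unreachableTactic false

namespace Cfsg.Agent.Lib.SuThreeGen

open Matrix

variable {F : Type*} [Field F] {σ : F →+* F}

local notation "M3" => Matrix (Fin 3) (Fin 3) F

/-- Two conjugate regular unipotent elements generate all transvections. -/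
def Gen (σ : F →+* F) : Prop :=
  ∃ (u g : UJ σ) (a b : F), mat σ u = um σ a b ∧ a ≠ 0 ∧
    ∀ (x : Fin 3 → F) (c : F), x 0 * σ (x 2) + x 1 * σ (x 1) + x 2 * σ (x 0) = 0 → Iso σ (tm σ x c) →
      In (Subgroup.closure ({u, g * u * g⁻¹} : Set (UJ σ))) (tm σ x c)

/-- The first generator's long coordinate. -/
def pb (σ : F →+* F) (l : F) : F := (3 + σ l / l) * σ l

/-- The Weyl element. -/
def wm (σ : F →+* F) (l : F) : M3 := !![0, 0, l; 0, -(σ l / l), 0; (σ l)⁻¹, 0, 0]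

variable (hσ : ∀ x, σ (σ x) = x)
include hσ

theorem gen_of_param {y : F} (hy : y + σ y = 1) {l a : F} (hl : l ≠ 0) (hS : l + σ l ≠ 0)
    (hN : a * σ a = -((l + σ l) ^ 3 / (l * σ l)))
    (hgen : ∀ H : Subgroup (UJ σ), In H (um σ a (pb σ l)) → In H (wm σ l) →
      (∀ d : F, d + σ d = 0 → In H (um σ 0 d)) ∧ ∃ a' b', In H (um σ a' b') ∧ a' * σ a ≠ a * σ a') :
    Gen σ := by
  have hl' : σ l ≠ 0 := fun h => hl (by rw [← hσ l, h, map_zero])
  obtain ⟨S, hSdef⟩ : ∃ z, z = l + σ l := ⟨_, rfl⟩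
  rw [← hSdef] at hS hN
  have hSσ : σ S = S := by rw [hSdef, map_add, hσ, add_comm]
  have hS' : σ l + l ≠ 0 := by rw [add_comm, ← hSdef]; exact hS
  have ha0 : a ≠ 0 := fun h => by
    rw [h, zero_mul] at hN
    exact (div_ne_zero (pow_ne_zero 3 hS) (mul_ne_zero hl hl')) (neg_eq_zero.1 hN.symm)
  obtain ⟨b, hb⟩ : ∃ z, z = pb σ l := ⟨_, rfl⟩
  rw [← hb] at hgen
  have hab : b + σ b + a * σ a = 0 := by
    rw [hN, hb, pb, hSdef]; simp only [map_mul, map_add, map_div₀, map_ofNat, hσ]; field_simp; ring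
  obtain ⟨t, htdef⟩ : ∃ t : F, t = l / S ^ 2 := ⟨_, rfl⟩
  have ht0 : t ≠ 0 := htdef ▸ div_ne_zero hl (pow_ne_zero _ hS)
  have ht' : σ t ≠ 0 := fun h => ht0 (by rw [← hσ t, h, map_zero])
  obtain ⟨a', ha'⟩ : ∃ z, z = a * σ t ^ 2 / t := ⟨_, rfl⟩
  have hG1 : a' = σ l ^ 2 / (l * S ^ 2) * a := by
    rw [ha', htdef]; simp only [map_div₀, map_pow, hSσ]; field_simp
  have htt : t * σ t = l * σ l / S ^ 4 := by
    rw [htdef]; simp only [map_mul, map_neg, map_div₀, map_pow, hSσ, hσ]; field_simp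
  obtain ⟨b', hb'⟩ : ∃ z, z = l / S ^ 2 := ⟨_, rfl⟩
  obtain ⟨δ, hδ⟩ : ∃ z, z = b' - b * (t * σ t) := ⟨_, rfl⟩
  have ha'0 : a' ≠ 0 := ha' ▸ div_ne_zero (mul_ne_zero ha0 (pow_ne_zero _ ht')) ht0
  have ha'' : σ a' ≠ 0 := fun h => ha'0 (by rw [← hσ a', h, map_zero])
  obtain ⟨N', hN'⟩ : ∃ z, z = a' * σ a' := ⟨_, rfl⟩
  have hN'S : N' = -(1 / S) := by
    have e : σ a' = l ^ 2 / (σ l * S ^ 2) * σ a := by
      rw [hG1]; simp only [map_mul, map_div₀, map_pow, hSσ, hσ]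
    rw [hN', e, hG1, show σ l ^ 2 / (l * S ^ 2) * a * (l ^ 2 / (σ l * S ^ 2) * σ a) =
      σ l ^ 2 / (l * S ^ 2) * (l ^ 2 / (σ l * S ^ 2)) * (a * σ a) by ring, hN]
    field_simp
  have hab' : b' + σ b' + a' * σ a' = 0 := by
    rw [← hN', hN'S, hb', map_div₀, map_pow, hSσ, ← add_div, ← hSdef]; field_simp; ring
  have hδ0 : δ + σ δ = 0 := by
    have e : σ (t * σ t) = t * σ t := by rw [map_mul, hσ, mul_comm]
    have hN2 : N' = t * σ t * (a * σ a) := by
      rw [hN', ha']; simp only [map_div₀, map_mul, map_pow, hσ]; field_simp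
    rw [hδ, map_sub, map_mul σ b, e]
    linear_combination hab' - t * σ t * hab - hN2 + hN'
  obtain ⟨xx, hxx⟩ : ∃ z, z = δ * y / N' := ⟨_, rfl⟩
  have hxσ : σ xx = -(δ * σ y) / N' := by
    rw [hxx, map_div₀, map_mul, eq_neg_of_add_eq_zero_right hδ0, hN', map_mul, hσ, mul_comm (σ a'), neg_mul]
  obtain ⟨c, hc⟩ : ∃ z, z = a' * xx := ⟨_, rfl⟩
  obtain ⟨d, hd⟩ : ∃ z, z = -(c * σ c) * y := ⟨_, rfl⟩
  have hcd : d + σ d + c * σ c = 0 := by
    have e : σ (c * σ c) = c * σ c := by rw [map_mul, hσ, mul_comm]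
    rw [hd, map_mul σ _ y, map_neg, e]; linear_combination (-(c * σ c)) * hy
  let G : M3 := !![-S, -(σ a * l ^ 2 / (S * σ l)), -(σ l / S); σ l / l * a, -(l / σ l), 0; -(S / l), 0, 0]
  let T : M3 := !![t, 0, 0; 0, σ t / t, 0; 0, 0, (σ t)⁻¹]
  have hconjT : T * um σ a b = um σ a' (b * (t * σ t)) * T := by
    rw [ha']
    ext i j; fin_cases i <;> fin_cases j <;>
      simp [T, um, Matrix.mul_apply, Fin.sum_univ_three, hσ] <;> field_simp
  have hconjC : um σ c d * um σ a' (b * (t * σ t)) = um σ a' b' * um σ c d := by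
    rw [um_mul, um_mul, add_comm c a']
    congr 1
    rw [hc, map_mul, hxσ, hxx]
    have hN'0 : N' ≠ 0 := hN' ▸ mul_ne_zero ha'0 ha''
    field_simp
    linear_combination δ * hy * (a' * σ a') - δ * hN' + N' * hδ
  have hS2 : l + σ l ≠ 0 := hSdef ▸ hS
  have haσ' : σ a = -(S ^ 3 / (l * σ l * a)) := by
    exact mul_left_cancel₀ ha0 (by rw [hN]; field_simp)
  have hGu : G * um σ a' b' = wm σ l * um σ a b * G := by
    rw [hb', hb, hG1]
    ext i j; fin_cases i <;> fin_cases j <;>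
      simp [G, wm, um, pb, Matrix.mul_apply, Fin.sum_univ_three, hσ, hSσ, map_neg, haσ'] <;>
      subst hSdef <;> field_simp <;> ring1
  have hGdet : G.det = 1 := by
    simp [G, Matrix.det_fin_three]; field_simp
  have hGiso : Iso σ G := by
    ext i j; fin_cases i <;> fin_cases j <;>
      simp [G, J3, Matrix.mul_apply, Fin.sum_univ_three, Matrix.transpose_apply, hσ, hSσ, haσ'] <;>
      subst hSdef <;> field_simp <;> ring1
  have hTdet : T.det = 1 := by simp [T, Matrix.det_fin_three]; field_simp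
  have hTiso : Iso σ T := by
    ext i j; fin_cases i <;> fin_cases j <;>
      simp [T, J3, Matrix.mul_apply, Fin.sum_univ_three, Matrix.transpose_apply, hσ, ht0, ht'] <;> field_simp
  have hudet : ∀ p r : F, (um σ p r).det = 1 := fun p r => by simp [um, Matrix.det_fin_three]
  let u : UJ σ := ⟨⟨um σ a b, hudet _ _⟩, iso_um hσ hab⟩
  let g : UJ σ := ⟨⟨G, hGdet⟩, hGiso⟩ * ⟨⟨um σ c d, hudet _ _⟩, iso_um hσ hcd⟩ * ⟨⟨T, hTdet⟩, hTiso⟩
  refine ⟨u, g, a, b, rfl, ha0, fun x s hx hiso => ?_⟩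
  set H := Subgroup.closure ({u, g * u * g⁻¹} : Set (UJ σ))
  have hu : In H (um σ a b) := ⟨u, Subgroup.subset_closure (by simp), rfl⟩
  have hv : In H (wm σ l * um σ a b) := by
    refine ⟨g * u * g⁻¹, Subgroup.subset_closure (by simp), ?_⟩
    have hg : mat σ g = G * um σ c d * T := rfl
    have e : mat σ g * mat σ u = wm σ l * um σ a b * mat σ g := by
      rw [hg, show mat σ u = um σ a b from rfl, Matrix.mul_assoc (G * um σ c d), hconjT, ← Matrix.mul_assoc,
        Matrix.mul_assoc G, hconjC, ← Matrix.mul_assoc, hGu]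
      simp only [Matrix.mul_assoc]
    rw [mat_mul, mat_mul, e, Matrix.mul_assoc, ← mat_mul, mul_inv_cancel]
    exact Matrix.mul_one _
  have hw : In H (wm σ l) := hu.cancel hv rfl
  obtain ⟨h0, a₂, b₂, h2, hind⟩ := hgen H hu hw
  exact transvection_mem hσ h0 hu h2 hind hw (by simp [wm]) (by simp [wm]) (by simp [wm]) hx hiso

end Cfsg.Agent.Lib.SuThreeGen
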